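import Groth.Agent.Snapper.Multi
import Groth.Agent.KFlatLib.Scheme.ProjModule
import Groth.Agent.QCoh.PushLin
import Groth.Agent.CurveBC.Coh
import Groth.Agent.PicClLib.Basic
import Groth.Agent.H23.RedSub

/-! Euler characteristics of twists along closed immersions. -/

noncomputable section

set_option linter.style.haveILetI false
set_option linter.unusedSectionVars false
set_option backward.isDefEq.respectTransparency false
set_option backward.isDefEq.respectTransparency.types false

universe u

open CategoryTheory CategoryTheory.Limits AlgebraicGeometry TopologicalSpace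

namespace Groth.Agent.IntNum

variable {X Y : Scheme.{u}}

/-- Euler characteristics are unchanged by direct image along an affine morphism. -/
theorem euler_push (k : Type u) [Field k] [X.Over (Spec (CommRingCat.of k))] [Y.Over (Spec (CommRingCat.of k))]
    (f : X ⟶ Y) [IsAffineHom f] (hf : f ≫ (Y ↘ Spec (CommRingCat.of k)) = X ↘ Spec (CommRingCat.of k))
    {M : X.Modules} (hM : Coh.IsQCoh M) :
    Curv2.euler k Y ((Coh.push f).obj M) = Curv2.euler k X M := by
  refine finsum_congr fun i => ?_
  obtain ⟨e⟩ := QCoh.HH_push_linear f (Coh.toGlobal (Y ↘ Spec (CommRingCat.of k)))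
    (Coh.toGlobal (X ↘ Spec (CommRingCat.of k))) (fun a => by rw [← hf]; rfl) hM i
  rw [LinearEquiv.finrank_eq e]

/-- Pullback commutes with tensor products. -/
def pullTensor (f : X ⟶ Y) (A B : Y.Modules) :
    (Scheme.Modules.pullback f).obj (CohB1.tensorMod A B) ≅
      CohB1.tensorMod ((Scheme.Modules.pullback f).obj A) ((Scheme.Modules.pullback f).obj B) :=
  ((KFlatLib.pullTensorBiIso f).app A).app B

/-- Pullback commutes with tensor powers. -/
theorem pullback_tensorPow (f : X ⟶ Y) (L : Y.Modules) : ∀ n : ℕ,
    Nonempty ((Scheme.Modules.pullback f).obj (CohB1.tensorPow L n) ≅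
      CohB1.tensorPow ((Scheme.Modules.pullback f).obj L) n)
  | 0 => ⟨CurveBC.unitIso f⟩
  | n + 1 => by
    obtain ⟨e⟩ := pullback_tensorPow f L n
    exact ⟨pullTensor f _ _ ≪≫ PicGrp.tensorModIso e (Iso.refl _)⟩

/-- The projection formula along a closed immersion. -/
theorem push_tensor (i : X ⟶ Y) [IsClosedImmersion i] (M : X.Modules) (N : Y.Modules) :
    Nonempty ((Coh.push i).obj (CohB1.tensorMod M ((Scheme.Modules.pullback i).obj N)) ≅
      CohB1.tensorMod ((Coh.push i).obj M) N) := by
  haveI := KFlatLib.isIso_projMod_of_isClosedImmersion i M N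
  exact ⟨(asIso (KFlatLib.projMod i M N)).symm⟩

/-- Twists commute with direct image along a closed immersion. -/
theorem push_tensorPows (i : X ⟶ Y) [IsClosedImmersion i] (M : X.Modules) :
    ∀ {r : ℕ} (L : Fin r → Y.Modules) (n : Fin r → ℕ),
      Nonempty ((Coh.push i).obj (Curv2.tensorPows M r (fun j => (Scheme.Modules.pullback i).obj (L j)) n) ≅
        Curv2.tensorPows ((Coh.push i).obj M) r L n)
  | 0, _, _ => ⟨Iso.refl _⟩
  | r + 1, L, n => by
    obtain ⟨e⟩ := push_tensorPows i M (fun j => L j.castSucc) (fun j => n j.castSucc)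
    obtain ⟨a⟩ := pullback_tensorPow i (L (Fin.last r)) (n (Fin.last r))
    obtain ⟨p⟩ := push_tensor i (Curv2.tensorPows M r (fun j => (Scheme.Modules.pullback i).obj (L j.castSucc))
      (fun j => n j.castSucc)) (CohB1.tensorPow (L (Fin.last r)) (n (Fin.last r)))
    exact ⟨(Coh.push i).mapIso (PicGrp.tensorModIso (Iso.refl _) a.symm) ≪≫ p ≪≫
      PicGrp.tensorModIso e (Iso.refl _)⟩

/-- The Euler characteristic of the twists of a module on a closed subscheme. -/
theorem euler_tensorPows_push (k : Type u) [Field k] [X.Over (Spec (CommRingCat.of k))]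
    [Y.Over (Spec (CommRingCat.of k))] [IsProper (Y ↘ Spec (CommRingCat.of k))]
    (i : X ⟶ Y) [IsClosedImmersion i] (hi : i ≫ (Y ↘ Spec (CommRingCat.of k)) = X ↘ Spec (CommRingCat.of k))
    {M : X.Modules} (hM : Coh.IsCoh M) {r : ℕ} (L : Fin r → Y.Modules) (hL : ∀ j, PicF.IsInvertible (L j))
    (n : Fin r → ℕ) :
    Curv2.euler k X (Curv2.tensorPows M r (fun j => (Scheme.Modules.pullback i).obj (L j)) n) =
      Curv2.euler k Y (Curv2.tensorPows ((Coh.push i).obj M) r L n) := by
  haveI : IsProper (X ↘ Spec (CommRingCat.of k)) := hi ▸ inferInstance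
  haveI := CurveCohLib.isNoetherian_of_proper (k := k) (X := X)
  rw [← euler_push k i hi
    (Snapper.isCoh_tensorPows _ (fun j => PicClLib.isInvertible_pullback i (hL j)) n hM).1]
  exact CurveCohLib.euler_congr (k := k) (push_tensorPows i M L n).some

/-- The degree on a closed subscheme, computed upstairs. -/
theorem deg_pullback_closed (k : Type u) [Field k] [X.Over (Spec (CommRingCat.of k))]
    [Y.Over (Spec (CommRingCat.of k))]
    (i : X ⟶ Y) [IsClosedImmersion i] (hi : i ≫ (Y ↘ Spec (CommRingCat.of k)) = X ↘ Spec (CommRingCat.of k))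
    {E : Y.Modules} (hE : Coh.IsQCoh E) (n : ℕ) :
    Curv2.deg k X ((Scheme.Modules.pullback i).obj E) n =
      Curv2.euler k Y (CohB1.tensorMod ((Coh.push i).obj (Coh.structureModule X)) E) -
        n * Curv2.euler k Y ((Coh.push i).obj (Coh.structureModule X)) := by
  have hp : Coh.IsQCoh ((Scheme.Modules.pullback i).obj E) := QCoh.isQCoh_pullback i hE
  unfold Curv2.deg
  rw [← euler_push k i hi hp, ← euler_push k i hi (PnCoh.isQCoh_structureModule X),
    CurveCohLib.euler_congr (k := k) ((Coh.push i).mapIso
      (CurveTensor.structureTensorIso ((Scheme.Modules.pullback i).obj E)).symm ≪≫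
        (push_tensor i (Coh.structureModule X) E).some)]

/-- The reduced closed subscheme on the closure of a point. -/
def ptIdeal (ξ : X) : X.IdealSheafData :=
  Scheme.IdealSheafData.vanishingIdeal (⟨closure ({ξ} : Set X), isClosed_closure⟩ : Closeds X)

theorem range_ptIdeal (ξ : X) : Set.range (ptIdeal ξ).subschemeι = closure ({ξ} : Set X) :=
  H23.RedSub.range_vanishingIdeal _

end Groth.Agent.IntNum
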