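import Groth.Agent.IntNum.Leading

/-! Points and components in small dimension. -/

noncomputable section

set_option linter.style.haveILetI false

universe u v

open CategoryTheory AlgebraicGeometry TopologicalSpace

namespace Groth.Agent.IntNum

variable {X : Scheme.{u}}

/-- The points of a zero-dimensional closed set are closed. -/
theorem isClosed_of_dim_lt_one {C : Set X} (hC : IsClosed C)
    (hd : topologicalKrullDim ↥C < (1 : WithBot ℕ∞)) {x : X} (hx : x ∈ C) : IsClosed ({x} : Set X) := by
  refine isClosed_of_closure_subset fun y hy => ?_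
  by_contra hne
  have hle : topologicalKrullDim ↥(closure ({x} : Set X)) ≤ ((0 : ℕ) : WithBot ℕ∞) := by
    have h := lt_of_le_of_lt (H23.TopDim.dim_le_dim_of_subset
      (hC.closure_subset_iff.2 (Set.singleton_subset_iff.2 hx))) hd
    revert h
    generalize topologicalKrullDim ↥(closure ({x} : Set X)) = a
    intro h
    induction a using WithBot.recBotCoe with
    | bot => exact bot_le
    | coe a =>
      induction a using ENat.recTopCoe with
      | top => exact absurd h (by simp)
      | coe a =>
        have : a < 1 := by exact_mod_cast h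
        exact_mod_cast (by omega : a ≤ 0)
  have hlt := dim_closure_lt (closure_minimal (Set.singleton_subset_iff.2 hy) isClosed_closure) hne hle
  haveI : Nonempty ↥(closure ({y} : Set X)) := ⟨⟨y, subset_closure rfl⟩⟩
  haveI : Nonempty (IrreducibleCloseds ↥(closure ({y} : Set X))) :=
    ⟨⟨closure {⟨y, subset_closure rfl⟩}, isIrreducible_singleton.closure, isClosed_closure⟩⟩
  exact absurd hlt (not_lt.2 (by exact_mod_cast Order.krullDim_nonneg))

/-- A sum over all points supported at generic points of components is a sum over the components. -/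
theorem finsum_components {B : Type v} [AddCommMonoid B] (g : X → B)
    (hg : ∀ ξ : X, g ξ ≠ 0 → closure ({ξ} : Set X) ∈ irreducibleComponents X) :
    ∑ᶠ ξ : X, g ξ = ∑ᶠ Z : irreducibleComponents (X : Type u), g Z.2.1.genericPoint := by
  have hcl : ∀ Z : irreducibleComponents (X : Type u), closure ({Z.2.1.genericPoint} : Set X) = Z.1 :=
    fun Z => Z.2.1.closure_genericPoint (isClosed_of_mem_irreducibleComponents Z.1 Z.2)
  rw [← finsum_mem_range (g := fun Z : irreducibleComponents (X : Type u) => Z.2.1.genericPoint) fun a b h =>
    Subtype.ext ((hcl a).symm.trans ((congrArg (fun x => closure ({x} : Set X)) h).trans (hcl b)))]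
  rw [← finsum_mem_univ]
  refine finsum_mem_inter_support_eq' g _ _ fun x hx => ⟨fun _ => ⟨⟨_, hg x hx⟩, ?_⟩, fun _ => trivial⟩
  exact (inseparable_iff_closure_eq.2 (hcl ⟨_, hg x hx⟩)).eq

end Groth.Agent.IntNum
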