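import Groth.Agent.IntNum.Lead
import Groth.Agent.IntNum.Points
import Groth.Agent.AmpleVan.Criterion
import Groth.Agent.CurveCohLib.Nonspecial
import Groth.Agent.Lib.CurveVanish
import Groth.Agent.Lib.CurveDeg

/-! Ampleness on curves from positivity of degrees. -/

noncomputable section

set_option linter.style.haveILetI false
set_option backward.isDefEq.respectTransparency false
set_option backward.isDefEq.respectTransparency.types false

universe u

open CategoryTheory CategoryTheory.Limits AlgebraicGeometry TopologicalSpace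

namespace Groth.Agent.IntNum

open CurveBundle CurveSlope

variable {X : Scheme.{u}} (k : Type u) [Field k] [X.Over (Spec (CommRingCat.of k))]
  [IsProper (X ↘ Spec (CommRingCat.of k))]

theorem deg_tensorPow [IsIntegral X] (hdim : topologicalKrullDim X = 1) {L : X.Modules}
    (hL : PicF.IsInvertible L) : ∀ n : ℕ, Curv2.deg k X (CohB1.tensorPow L n) 1 = n * Curv2.deg k X L 1
  | 0 => by
    simp only [CohB1.tensorPow, CurveDeg.deg_structureModule, Nat.cast_zero, zero_mul]
  | n + 1 => by
    haveI := CurveCohLib.isNoetherian_of_proper (k := k) (X := X)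
    have hn := InvX.isInvertible_tensorPow hL n
    have h := CurveTensor.euler_tensor k hdim (InvEnd.isFinLocFreeOfRank_one hL)
      (CurveDeg.isCoh_of_isInvertible hn)
    rw [rk_eq (InvEnd.isFinLocFreeOfRank_one hn),
      Euler.euler_congr k (CurveTensor.commIso L (CohB1.tensorPow L n))] at h
    have ih := deg_tensorPow hdim hL n
    simp only [Curv2.deg, CohB1.tensorPow] at h ih ⊢
    change Curv2.euler k X (CohB1.tensorMod (CohB1.tensorPow L n) L) = _ at h
    push_cast at h ih ⊢
    linear_combination h + ih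

/-- Twisted submodules of the structure sheaf of a curve have no first cohomology. -/
theorem vanishing_sub [IsIntegral X] (hdim : topologicalKrullDim X = 1) {L : X.Modules}
    (hL : PicF.IsInvertible L) (hd : 0 < Curv2.deg k X L 1) {F : X.Modules} (hF : Coh.IsCoh F)
    (j : F ⟶ Coh.structureModule X) [Mono j] :
    ∃ m₀ : ℕ, ∀ m, m₀ ≤ m → Subsingleton (Coh.HH X (CohB1.tensorMod F (CohB1.tensorPow L m)) 1) := by
  haveI := CurveCohLib.isNoetherian_of_proper (k := k) (X := X)
  by_cases hr : rk F = 0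
  · refine ⟨0, fun m _ => ?_⟩
    have hP := InvX.isInvertible_tensorPow hL m
    have hcl : ∀ x ∈ CohB1.support F, IsClosed ({x} : Set X) := fun x hx => by
      by_contra hxc
      obtain rfl := CurveCohLib.eq_genericPoint_of_not_isClosed hdim hxc
      letI := (isField_stalk_generic (X := X)).toField
      haveI := finite_stalk_of_coh hF (genericPoint X)
      exact hx (Module.finrank_zero_iff.1 hr)
    exact CurveVanish.subsingleton_HH_of_finite
      (CurveCohLib.finite_of_closedPoints (QCoh.isClosed_support_of_isFT hF.1 hF.2) hcl) hcl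
      (fun x hx => by
        by_contra h
        exact hx (HilbPoly.support_tensor_subset _ _ h)) 0
  · refine ⟨((Curv2.genus k X : ℤ) - Curv2.euler k X F).toNat, fun m hm => ?_⟩
    have hP := InvX.isInvertible_tensorPow hL m
    have hP1 := InvEnd.isFinLocFreeOfRank_one hP
    have hPf : FlatMod.IsFinLocFree (CohB1.tensorPow L m) := fun y => let ⟨W, hy, he⟩ := hP1 y; ⟨W, 1, hy, he⟩
    have hFc : Coh.IsCoh ((DCoh.tensorBi.obj (CohB1.tensorPow L m)).obj F) := CurveTensor.isCoh_tensor hPf hF
    haveI : Mono ((DCoh.tensorBi.obj (CohB1.tensorPow L m)).map j) :=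
      (CurveTensor.shortExact_tensor hPf _ _ _ (shortExact_cokernel_of_mono j)).mono_f
    refine QCoh.subsingleton_HH_of_iso (CurveTensor.commIso (CohB1.tensorPow L m) F) 1 ?_
    refine CurveCohLib.Nonspecial.h1_of_euler k hdim hFc (fun φ hφ => CurveCohLib.Nonspecial.section_of_sub k hFc hP
      ((DCoh.tensorBi.obj (CohB1.tensorPow L m)).map j ≫ (KFlatLib.tensorUnitIso (CohB1.tensorPow L m)).hom) φ hφ) ?_
    rw [CurveTensor.euler_tensor k hdim hP1 hF, deg_tensorPow k hdim hL m, Nat.cast_one, one_mul]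
    have h1 : (1 : ℤ) ≤ (rk F : ℤ) := by exact_mod_cast Nat.one_le_iff_ne_zero.2 hr
    have h2 : (m : ℤ) ≤ (rk F : ℤ) * ((m : ℤ) * Curv2.deg k X L 1) := by
      have h3 : (0 : ℤ) ≤ m := Int.natCast_nonneg m
      calc (m : ℤ) = 1 * ((m : ℤ) * 1) := by ring
        _ ≤ (rk F : ℤ) * ((m : ℤ) * Curv2.deg k X L 1) :=
          mul_le_mul h1 (mul_le_mul_of_nonneg_left (by omega) h3) (by omega) (by omega)
    omega

/-- A polarisation has positive degree on every curve. -/
theorem deg_pos_of_isAmple {Z : Scheme.{u}} (i : Z ⟶ X) [IsClosedImmersion i] [IsIntegral Z]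
    (hZ : topologicalKrullDim Z = 1) {L : X.Modules} (hL : CohB1.IsAmple L) :
    0 < @Curv2.deg k _ Z ⟨i ≫ (X ↘ Spec (CommRingCat.of k))⟩ ((Scheme.Modules.pullback i).obj L) 1 := by
  haveI := CurveCohLib.isNoetherian_of_proper (k := k) (X := X)
  letI : Z.Over (Spec (CommRingCat.of k)) := ⟨i ≫ (X ↘ Spec (CommRingCat.of k))⟩
  rw [deg_pullback_closed k i rfl (CurveDeg.isCoh_of_isInvertible hL.1).1 1]
  have hG : Coh.IsCoh ((Coh.push i).obj (Coh.structureModule Z)) := QCoh.isCoh_push_structure i
  have hs : CohB1.support ((Coh.push i).obj (Coh.structureModule Z)) = Set.range i := by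
    refine le_antisymm (QCoh.support_push_subset i QCoh.isQCoh_structureModule) ?_
    rintro _ ⟨z, rfl⟩ hz
    haveI : Subsingleton (((Coh.push i).obj (Coh.structureModule Z)).presheaf.stalk (i z)) := hz
    have h := H23.ClosedPushLen.length_stalk i (Coh.structureModule Z) z
    rw [Module.length_eq_zero, H23.ClosedPushLen.length_structureModule] at h
    exact absurd (Module.length_eq_zero_iff.1 h.symm) (not_subsingleton _)
  have hd : topologicalKrullDim ↥(CohB1.support ((Coh.push i).obj (Coh.structureModule Z))) = ((1 : ℕ) : WithBot ℕ∞) := by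
    rw [hs, Nat.cast_one]
    exact (IsHomeomorph.topologicalKrullDim_eq _ i.isClosedEmbedding.isEmbedding.toHomeomorph.isHomeomorph).symm.trans hZ
  have h := (HilbPoly.mult_nonneg_and_pos k hL 1 _ hG hd.le).2 hd
  simp only [HilbPoly.mult, HilbPoly.lead, List.replicate_one, HilbPoly.iterD] at h
  rw [Nat.cast_one, one_mul]
  exact sub_pos.2 (lt_of_sub_pos (a := Curv2.euler k X (CohB1.tensorMod ((Coh.push i).obj (Coh.structureModule Z)) L)) h)

/-- Coherent modules twisted by a module of positive degree on every curve have no first cohomology. -/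
theorem vanishing (hdim : topologicalKrullDim X ≤ 1) {L : X.Modules} (hL : PicF.IsInvertible L)
    (hpos : ∀ (Z : Scheme.{u}) (i : Z ⟶ X) [IsClosedImmersion i] [IsIntegral Z], topologicalKrullDim Z = 1 →
      0 < @Curv2.deg k _ Z ⟨i ≫ (X ↘ Spec (CommRingCat.of k))⟩ ((Scheme.Modules.pullback i).obj L) 1)
    {F : X.Modules} (hF : Coh.IsCoh F) :
    ∃ m₀ : ℕ, ∀ m, m₀ ≤ m → Subsingleton (Coh.HH X (CohB1.tensorMod F (CohB1.tensorPow L m)) 1) := by
  haveI := CurveCohLib.isNoetherian_of_proper (k := k) (X := X)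
  induction QCoh.filt_of_isCoh hF with
  | @zero N h =>
    refine ⟨0, fun m _ => CurveVanish.subsingleton_HH_of_finite Set.finite_empty (by simp)
      (fun x _ => ?_) 0⟩
    by_contra hx
    exact HilbPoly.support_tensor_subset _ _ hx
      (ModuleCat.subsingleton_of_isZero (Functor.map_isZero (DerSch.stalkFunctor X x) h))
  | @step N M φ _ _ hN hM hex ih =>
    obtain ⟨m₁, hm₁⟩ := ih hN
    obtain ⟨Z, i, hi, hZ, I, ι, hι, hI, hI0, ⟨e⟩⟩ := hex
    haveI := hi; haveI := hZ; haveI := hι
    have hC : Coh.IsCoh (cokernel φ) := QCoh.isCoh_cokernel hN.1 hM φ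
    suffices h : ∃ m₂ : ℕ, ∀ m, m₂ ≤ m →
        Subsingleton (Coh.HH X (CohB1.tensorMod ((Coh.push i).obj I) (CohB1.tensorPow L m)) 1) by
      obtain ⟨m₂, hm₂⟩ := h
      refine ⟨max m₁ m₂, fun m hm => ?_⟩
      haveI := AmpleVan.isEquivalence_tw (InvX.isInvertible_tensorPow hL m)
      exact QCoh.subsingleton_HH_X₂ ((shortExact_cokernel_of_mono φ).map_of_exact (AmpleVan.tw (CohB1.tensorPow L m))) 1
        (hm₁ m (le_of_max_le_left hm))
        (QCoh.subsingleton_HH_of_iso ((AmpleVan.tw (CohB1.tensorPow L m)).mapIso e.symm) 1 (hm₂ m (le_of_max_le_right hm)))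
    have hsupp : CohB1.support ((Coh.push i).obj I) ⊆ Set.range i := QCoh.support_push_subset i hI
    have hdimZ : topologicalKrullDim Z ≤ 1 := i.isClosedEmbedding.isEmbedding.isInducing.topologicalKrullDim_le.trans hdim
    by_cases hZ1 : topologicalKrullDim Z = 1
    · letI : Z.Over (Spec (CommRingCat.of k)) := ⟨i ≫ (X ↘ Spec (CommRingCat.of k))⟩
      haveI : IsProper (Z ↘ Spec (CommRingCat.of k)) :=
        show IsProper (i ≫ (X ↘ Spec (CommRingCat.of k))) from inferInstance
      haveI := CurveCohLib.isNoetherian_of_proper (k := k) (X := Z)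
      have hIc : Coh.IsCoh I := QCoh.isCoh_of_mono ι QCoh.isCoh_structureModule' hI
      have hLZ := PicClLib.isInvertible_pullback i hL
      obtain ⟨m₂, hm₂⟩ := vanishing_sub k hZ1 hLZ (hpos Z i hZ1) hIc ι
      refine ⟨m₂, fun m hm => ?_⟩
      obtain ⟨p⟩ := push_tensor i I (CohB1.tensorPow L m)
      obtain ⟨a⟩ := pullback_tensorPow i L m
      refine QCoh.subsingleton_HH_of_iso ((Coh.push i).mapIso (PicGrp.tensorModIso (Iso.refl I) a.symm) ≪≫ p) 1 ?_
      obtain ⟨l⟩ := QCoh.HH_push_linear i (Coh.toGlobal (X ↘ Spec (CommRingCat.of k)))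
        (Coh.toGlobal (Z ↘ Spec (CommRingCat.of k))) (fun b => rfl)
        (KFlatLib.isQCoh_tensor hI (ProjUPX.isQCoh_of_isInvertible (InvX.isInvertible_tensorPow hLZ m))) 1
      exact @Equiv.subsingleton _ _ l.toEquiv.symm (hm₂ m hm)
    · have hlt : topologicalKrullDim ↥(CohB1.support ((Coh.push i).obj I)) < (1 : WithBot ℕ∞) := by
        refine lt_of_le_of_lt (H23.TopDim.dim_le_dim_of_subset hsupp) ?_
        rw [← IsHomeomorph.topologicalKrullDim_eq _ i.isClosedEmbedding.isEmbedding.toHomeomorph.isHomeomorph]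
        exact lt_of_le_of_ne hdimZ hZ1
      have hP : Coh.IsCoh ((Coh.push i).obj I) :=
        QCoh.isCoh_of_mono e.inv hC (QCoh.isQCoh_pushforward i hI)
      have hcl := fun x hx => isClosed_of_dim_lt_one (QCoh.isClosed_support_of_isFT hP.1 hP.2) hlt (x := x) hx
      refine ⟨0, fun m _ => CurveVanish.subsingleton_HH_of_finite
        (CurveCohLib.finite_of_closedPoints (QCoh.isClosed_support_of_isFT hP.1 hP.2) hcl) hcl
        (fun x hx => ?_) 0⟩
      by_contra h
      exact hx (HilbPoly.support_tensor_subset _ _ h)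

/-- Positive degree on every curve implies ampleness. -/
theorem isAmple_of_deg_pos (hdim : topologicalKrullDim X ≤ 1) {L : X.Modules} (hL : PicF.IsInvertible L)
    (hpos : ∀ (Z : Scheme.{u}) (i : Z ⟶ X) [IsClosedImmersion i] [IsIntegral Z], topologicalKrullDim Z = 1 →
      0 < @Curv2.deg k _ Z ⟨i ≫ (X ↘ Spec (CommRingCat.of k))⟩ ((Scheme.Modules.pullback i).obj L) 1) :
    CohB1.IsAmple L := by
  haveI := CurveCohLib.isNoetherian_of_proper (k := k) (X := X)
  refine AmpleVan.isAmple_of_HH_one hL fun W hW => ?_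
  obtain ⟨m₀, hm₀⟩ := vanishing k hdim hL hpos (F := (QCoh.vanIdeal W).toModules)
    (QCoh.isCoh_of_mono (QCoh.vanIdeal W).ι QCoh.isCoh_structureModule' (QCoh.isQCoh_vanIdeal W))
  exact ⟨m₀, hm₀ (m₀ + 1) (Nat.le_succ _)⟩

end Groth.Agent.IntNum

namespace Groth.Agent.IntNum

/-- Degrees of pullbacks depend only on the underlying closed set for reduced integral subschemes. -/
theorem deg_pullback_congr (k : Type u) [Field k] {X : Scheme.{u}} [X.Over (Spec (CommRingCat.of k))]
    [IsProper (X ↘ Spec (CommRingCat.of k))] {Z W : Scheme.{u}} (i : Z ⟶ X) (j : W ⟶ X)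
    [IsClosedImmersion i] [IsClosedImmersion j] [IsIntegral Z] [IsIntegral W]
    (hr : Set.range i = Set.range j) {L : X.Modules} (hL : PicF.IsInvertible L) :
    @Curv2.deg k _ Z ⟨i ≫ (X ↘ Spec (CommRingCat.of k))⟩ ((Scheme.Modules.pullback i).obj L) 1 =
      @Curv2.deg k _ W ⟨j ≫ (X ↘ Spec (CommRingCat.of k))⟩ ((Scheme.Modules.pullback j).obj L) 1 := by
  haveI := CurveCohLib.isNoetherian_of_proper (k := k) (X := X)
  obtain ⟨e⟩ := QCoh.push_structure_iso i j hr.symm
  letI : Z.Over (Spec (CommRingCat.of k)) := ⟨i ≫ (X ↘ Spec (CommRingCat.of k))⟩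
  letI : W.Over (Spec (CommRingCat.of k)) := ⟨j ≫ (X ↘ Spec (CommRingCat.of k))⟩
  rw [deg_pullback_closed k i rfl (CurveDeg.isCoh_of_isInvertible hL).1,
    deg_pullback_closed k j rfl (CurveDeg.isCoh_of_isInvertible hL).1,
    CurveCohLib.euler_congr (k := k) (PicGrp.tensorModIso e (Iso.refl L)), CurveCohLib.euler_congr (k := k) e]

end Groth.Agent.IntNum
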