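import Groth.Agent.H23.ClosedPushLen
import Groth.Agent.Lib.CurveBundle
import Mathlib.AlgebraicGeometry.ResidueField
import Mathlib.AlgebraicGeometry.Morphisms.Proper

/-! The generic rank of the direct image of the structure sheaf. -/

noncomputable section

set_option autoImplicit false
set_option linter.style.haveILetI false

universe u

open AlgebraicGeometry CategoryTheory CategoryTheory.Limits TopologicalSpace

namespace Groth.Agent.IntNum

open Groth.Agent

variable {X Y : Scheme.{u}}

/-- Stalks of a direct image along a closed map at a point with one preimage. -/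
theorem bijective_stalkPushforward (f : X ⟶ Y) (hf : IsClosedMap f.base) (M : X.Modules) {x : X}
    (hx : ∀ z, f.base z = f.base x → z = x) :
    Function.Bijective (TopCat.Presheaf.stalkPushforward Ab.{u} f.base M.presheaf x) := by
  have key : ∀ U : X.Opens, x ∈ U → ∃ V : Y.Opens, f.base x ∈ V ∧ f ⁻¹ᵁ V ≤ U := fun U hU => by
    refine ⟨⟨(f.base '' (U : Set X)ᶜ)ᶜ, (hf _ U.2.isClosed_compl).isOpen_compl⟩, ?_, ?_⟩
    · rintro ⟨z, hz, he⟩
      exact hz (hx z he ▸ hU)
    · intro z hz
      by_contra h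
      exact hz ⟨z, h, rfl⟩
  have he : ∀ (V : Y.Opens) (hV : f.base x ∈ V) (v : Γ(M, f ⁻¹ᵁ V)),
      TopCat.Presheaf.stalkPushforward Ab.{u} f.base M.presheaf x
        (((Coh.push f).obj M).presheaf.germ V (f.base x) hV v) = M.presheaf.germ (f ⁻¹ᵁ V) x hV v :=
    fun V hV v => congrArg (fun φ => φ v) (TopCat.Presheaf.stalkPushforward_germ Ab.{u} f.base M.presheaf V x hV)
  refine ⟨?_, fun t => ?_⟩
  · intro a b hab
    obtain ⟨U, hU, s, rfl⟩ := ((Coh.push f).obj M).presheaf.germ_exist a
    obtain ⟨U', hU', s', rfl⟩ := ((Coh.push f).obj M).presheaf.germ_exist b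
    have hab' := (he U hU s).symm.trans (hab.trans (he U' hU' s'))
    obtain ⟨W, hW, i, i', hii⟩ := TopCat.Presheaf.germ_eq M.presheaf x hU hU' s s' hab'
    obtain ⟨V, hV, hVW⟩ := key W hW
    rw [← ((Coh.push f).obj M).presheaf.germ_res_apply (homOfLE (inf_le_left.trans inf_le_left) : U ⊓ U' ⊓ V ⟶ U)
        (f.base x) ⟨⟨hU, hU'⟩, hV⟩ s,
      ← ((Coh.push f).obj M).presheaf.germ_res_apply (homOfLE (inf_le_left.trans inf_le_right) : U ⊓ U' ⊓ V ⟶ U')
        (f.base x) ⟨⟨hU, hU'⟩, hV⟩ s']
    congr 1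
    have hle : f ⁻¹ᵁ (U ⊓ U' ⊓ V) ≤ W := fun z hz => hVW hz.2
    have h2 := congrArg (M.presheaf.map (homOfLE hle).op) hii
    erw [← CategoryTheory.comp_apply, ← CategoryTheory.comp_apply, ← M.presheaf.map_comp,
      ← M.presheaf.map_comp] at h2
    exact h2
  · obtain ⟨U, hU, s, rfl⟩ := M.presheaf.germ_exist t
    obtain ⟨V, hV, hle⟩ := key U hU
    refine ⟨((Coh.push f).obj M).presheaf.germ V (f.base x) hV (M.presheaf.map (homOfLE hle).op s), (he _ hV _).trans ?_⟩
    exact M.presheaf.germ_res_apply (homOfLE hle) x hV s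

/-- The generic rank of `f_* O_X` for a morphism with one point over the generic point. -/
theorem rk_push_structure [IsIntegral X] [IsIntegral Y] (f : X ⟶ Y) (hf : IsClosedMap f.base)
    (hξ : f.base (genericPoint X) = genericPoint Y)
    (hone : ∀ z, f.base z = genericPoint Y → z = genericPoint X) :
    CurveBundle.rk ((Coh.push f).obj (Coh.structureModule X)) = f.residueDegree (genericPoint X) := by
  set x := genericPoint X
  set M := Coh.structureModule X
  unfold CurveBundle.rk
  rw [← hξ]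
  have hK : IsField (Y.presheaf.stalk (f.base x)) := hξ ▸ CurveBundle.isField_stalk_generic
  have hL : IsField (X.presheaf.stalk x) := CurveBundle.isField_stalk_generic
  letI := (f.stalkMap x).hom.toAlgebra
  letI : Module (Y.presheaf.stalk (f.base x)) (M.presheaf.stalk x) :=
    Module.compHom _ (f.stalkMap x).hom
  haveI : IsScalarTower (Y.presheaf.stalk (f.base x)) (X.presheaf.stalk x) (M.presheaf.stalk x) :=
    IsScalarTower.of_algebraMap_smul fun _ _ => rfl
  let e₀ : ((Coh.push f).obj M).presheaf.stalk (f.base x) ≃+ M.presheaf.stalk x := AddEquiv.ofBijective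
    (TopCat.Presheaf.stalkPushforward Ab.{u} f.base M.presheaf x).hom
    (bijective_stalkPushforward f hf M fun z hz => hone z (hz.trans hξ))
  have he : ∀ (U : Y.Opens) (hU : f.base x ∈ U) (v : Γ(M, f ⁻¹ᵁ U)),
      e₀ (((Coh.push f).obj M).presheaf.germ U (f.base x) hU v) = M.presheaf.germ (f ⁻¹ᵁ U) x hU v :=
    fun U hU v => congrArg (fun φ => φ v) (TopCat.Presheaf.stalkPushforward_germ Ab.{u} f.base M.presheaf U x hU)
  have e : ((Coh.push f).obj M).presheaf.stalk (f.base x) ≃ₗ[Y.presheaf.stalk (f.base x)] M.presheaf.stalk x := by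
    refine { e₀ with map_smul' := ?_ }
    intro a m
    obtain ⟨U, hU, b, rfl⟩ := Y.presheaf.exists_germ_eq (x := f.base x) a
    obtain ⟨V, hV, v, rfl⟩ := ((Coh.push f).obj M).presheaf.germ_exist m
    have hW : f.base x ∈ U ⊓ V := ⟨hU, hV⟩
    simp only [AddEquiv.toEquiv_eq_coe, Equiv.toFun_as_coe, EquivLike.coe_coe, RingHom.id_apply]
    rw [← Y.presheaf.germ_res_apply (homOfLE inf_le_left : U ⊓ V ⟶ U) (f.base x) hW b,
      ← ((Coh.push f).obj M).presheaf.germ_res_apply (homOfLE inf_le_right : U ⊓ V ⟶ V) (f.base x) hW v]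
    generalize Y.presheaf.map (homOfLE inf_le_left : U ⊓ V ⟶ U).op b = b'
    generalize ((Coh.push f).obj M).presheaf.map (homOfLE inf_le_right : U ⊓ V ⟶ V).op v = v'
    rw [← QCoh.germ_smul' ((Coh.push f).obj M) hW]
    refine ((he _ hW _).trans ?_).trans (congrArg
      (fun t => (Y.presheaf.germ (U ⊓ V) (f.base x) hW b') • t) (he _ hW v').symm)
    refine (QCoh.germ_smul' M (show x ∈ f ⁻¹ᵁ (U ⊓ V) from hW) (f.app _ b') v').trans ?_
    exact congrArg (fun t => t • M.presheaf.germ (f ⁻¹ᵁ (U ⊓ V)) x hW v')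
      (Scheme.Hom.germ_stalkMap_apply f (U ⊓ V) x hW b').symm
  let eO : X.presheaf.stalk x ≃ₗ[X.presheaf.stalk x] M.presheaf.stalk x :=
    LinearEquiv.ofBijective (LinearMap.toSpanSingleton (X.presheaf.stalk x) _ (H23.UnitSec.one x))
      ⟨fun a b h => sub_eq_zero.1 (H23.UnitSec.eq_zero_of_smul_one (a - b) (by rw [sub_smul]; exact sub_eq_zero.2 h)),
        fun m => Submodule.mem_span_singleton.1 ((H23.UnitSec.span_one x).ge (Submodule.mem_top : m ∈ ⊤))⟩
  rw [(e ≪≫ₗ (eO.restrictScalars (Y.presheaf.stalk (f.base x))).symm).finrank_eq]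
  unfold Scheme.Hom.residueDegree
  letI := (f.residueFieldMap x).hom.toAlgebra
  have hbij : ∀ (Z : Scheme.{u}) (z : Z), IsField (Z.presheaf.stalk z) → Function.Bijective (Z.residue z) := by
    intro Z z hz
    letI := hz.toField
    exact ⟨RingHom.injective _, IsLocalRing.residue_surjective⟩
  exact Algebra.finrank_eq_of_equiv_equiv (RingEquiv.ofBijective (Y.residue (f.base x)).hom (hbij _ _ hK))
    (RingEquiv.ofBijective (X.residue x).hom (hbij _ _ hL))
    (RingHom.ext fun a => congrArg (fun φ => φ a) (Scheme.residue_residueFieldMap f x))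

end Groth.Agent.IntNum
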