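import Mathlib.Algebra.MvPolynomial.Eval
import Mathlib.Algebra.MvPolynomial.Degrees
import Mathlib.Algebra.BigOperators.Ring.Finset
import Mathlib.Algebra.Field.Rat
import Mathlib.Data.Fintype.Pi
import Mathlib.Algebra.BigOperators.Fin
import Mathlib.Data.Fintype.BigOperators

/-! The coefficient of the product of all variables as an alternating sum of values. -/

noncomputable section

open MvPolynomial

namespace Groth.Agent.IntNum

/-- The sign attached to a vertex of the unit cube. -/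
def sgn {d : ℕ} (x : Fin d → Fin 2) : ℚ := ∏ i, if x i = 0 then -1 else 1

/-- The alternating sum of a function over the vertices of the unit cube. -/
def alt {d : ℕ} (f : (Fin d → ℕ) → ℚ) : ℚ := ∑ x : Fin d → Fin 2, sgn x * f (fun i => (x i : ℕ))

theorem alt_monomial {d : ℕ} (α : Fin d →₀ ℕ) :
    alt (fun n => ∏ i, (n i : ℚ) ^ α i) = if ∀ i, α i ≠ 0 then 1 else 0 := by
  classical
  have h := Fintype.prod_sum fun (i : Fin d) (j : Fin 2) => (if j = 0 then (-1 : ℚ) else 1) * ((j : ℕ) : ℚ) ^ α i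
  have h1 : alt (fun n => ∏ i, (n i : ℚ) ^ α i) =
      ∑ x : Fin d → Fin 2, ∏ i, (if x i = 0 then (-1 : ℚ) else 1) * ((x i : ℕ) : ℚ) ^ α i :=
    Finset.sum_congr rfl fun x _ => Finset.prod_mul_distrib.symm
  rw [h1, ← h]
  have h2 : ∀ i, (∑ j : Fin 2, (if j = 0 then (-1 : ℚ) else 1) * ((j : ℕ) : ℚ) ^ α i) =
      if α i ≠ 0 then 1 else 0 := fun i => by
    rw [Fin.sum_univ_two]
    by_cases hi : α i = 0
    · simp [hi]
    · simp [hi]
  rw [Finset.prod_congr rfl fun i _ => h2 i]
  split_ifs with hall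
  · exact Finset.prod_eq_one fun i _ => if_pos (hall i)
  · push Not at hall
    obtain ⟨i, hi⟩ := hall
    exact Finset.prod_eq_zero (Finset.mem_univ i) (if_neg (not_not.2 hi))

/-- The all-ones exponent. -/
abbrev ones (d : ℕ) : Fin d →₀ ℕ := Finsupp.equivFunOnFinite.symm fun _ => 1

theorem alt_eval {d : ℕ} (P : MvPolynomial (Fin d) ℚ) (hP : ∀ α ∈ P.support, (α.sum fun _ e => e) ≤ d) :
    alt (fun n => eval (fun i => (n i : ℚ)) P) = P.coeff (ones d) := by
  classical
  have h1 : alt (fun n => eval (fun i => (n i : ℚ)) P) =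
      ∑ α ∈ P.support, P.coeff α * alt (fun n => ∏ i, (n i : ℚ) ^ α i) := by
    unfold alt
    simp only [eval_eq', Finset.mul_sum]
    rw [Finset.sum_comm]
    exact Finset.sum_congr rfl fun α _ => Finset.sum_congr rfl fun x _ => by ring
  rw [h1]
  have h2 : ∀ α ∈ P.support, (∀ i, α i ≠ 0) → α = ones d := fun α hα hall => by
    have hle := hP α hα
    rw [Finsupp.sum_fintype _ _ (fun _ => rfl)] at hle
    have hge : ∀ i ∈ (Finset.univ : Finset (Fin d)), 1 ≤ α i := fun i _ => Nat.one_le_iff_ne_zero.2 (hall i)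
    have heq : ∑ _i : Fin d, 1 = ∑ i : Fin d, α i :=
      le_antisymm (Finset.sum_le_sum hge) (hle.trans_eq (by simp))
    ext i
    exact ((Finset.sum_eq_sum_iff_of_le hge).1 heq i (Finset.mem_univ i)).symm
  simp only [alt_monomial, mul_ite, mul_one, mul_zero]
  rw [Finset.sum_ite, Finset.sum_const_zero, add_zero]
  refine (Finset.sum_subset (s₂ := {ones d}) (fun α hα => ?_) fun α hα hα' => ?_).trans (Finset.sum_singleton _ _)
  · rw [Finset.mem_filter] at hα
    exact Finset.mem_singleton.2 (h2 α hα.1 hα.2)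
  · rw [Finset.mem_singleton] at hα
    subst hα
    by_contra hne
    exact hα' (Finset.mem_filter.2 ⟨mem_support_iff.2 hne, fun i => by simp⟩)

theorem alt_congr {d : ℕ} {f g : (Fin d → ℕ) → ℚ} (h : ∀ n, f n = g n) : alt f = alt g :=
  congrArg alt (funext h)

theorem alt_sub {d : ℕ} (f g : (Fin d → ℕ) → ℚ) : alt (fun n => f n - g n) = alt f - alt g := by
  simp [alt, mul_sub, Finset.sum_sub_distrib]

theorem alt_succ {d : ℕ} (f : (Fin (d + 1) → ℕ) → ℚ) :
    alt f = alt (fun n => f (Fin.cons 1 n)) - alt (fun n => f (Fin.cons 0 n)) := by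
  unfold alt
  rw [← (Fin.consEquiv fun _ => Fin 2).sum_comp, Fintype.sum_prod_type, Fin.sum_univ_two, sub_eq_add_neg,
    add_comm, ← Finset.sum_neg_distrib]
  congr 1
  · refine Finset.sum_congr rfl fun x _ => ?_
    congr 1
    · simp [sgn, Fin.prod_univ_succ, Fin.consEquiv]
    · congr 1; funext i; refine Fin.cases ?_ (fun j => ?_) i <;> simp [Fin.consEquiv]
  · refine Finset.sum_congr rfl fun x _ => ?_
    rw [← neg_mul]
    congr 1
    · simp [sgn, Fin.prod_univ_succ, Fin.consEquiv]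
    · congr 1; funext i; refine Fin.cases ?_ (fun j => ?_) i <;> simp [Fin.consEquiv]

/-- The alternating sum of integers is an integer. -/
theorem exists_int_alt {d : ℕ} (f : (Fin d → ℕ) → ℤ) : ∃ z : ℤ, alt (fun n => (f n : ℚ)) = z := by
  refine ⟨∑ x : Fin d → Fin 2, (∏ i, if x i = 0 then (-1 : ℤ) else 1) * f (fun i => (x i : ℕ)), ?_⟩
  unfold alt sgn
  push_cast
  refine Finset.sum_congr rfl fun x _ => ?_
  congr 1

theorem alt_one (f : (Fin 1 → ℕ) → ℚ) : alt f = f (fun _ => 1) - f (fun _ => 0) := by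
  have h : ∀ c : ℕ, alt (fun n : Fin 0 → ℕ => f (Fin.cons c n)) = f (fun _ => c) := fun c => by
    have e : ∀ n : Fin 0 → ℕ, (Fin.cons c n : Fin 1 → ℕ) = fun _ => c := fun n =>
      funext fun i => Fin.cases rfl (fun j => j.elim0) i
    simp [alt, sgn, e]
  rw [alt_succ, h, h]

end Groth.Agent.IntNum
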