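import Groth.Agent.IntNum.Leading
import Groth.Agent.IntNum.Coeff

/-! The leading term of Snapper polynomials. -/

noncomputable section

set_option linter.style.haveILetI false
set_option backward.isDefEq.respectTransparency false
set_option backward.isDefEq.respectTransparency.types false

universe u

open CategoryTheory CategoryTheory.Limits AlgebraicGeometry TopologicalSpace

namespace Groth.Agent.IntNum

variable (k : Type u) [Field k] {X : Scheme.{u}} [X.Over (Spec (CommRingCat.of k))]
  [IsProper (X ↘ Spec (CommRingCat.of k))] {r : ℕ}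

open Snapper

theorem χs_leading {L : Fin r → X.Modules} (hL : ∀ i, PicF.IsInvertible (L i)) {M : X.Modules} (hM : Coh.IsCoh M)
    {d : ℕ} (hd : topologicalKrullDim ↥(CohB1.support M) ≤ (d : WithBot ℕ∞)) :
    ∃ S : Finset X, (∀ ξ ∈ S, topologicalKrullDim ↥(closure ({ξ} : Set X)) = (d : WithBot ℕ∞)) ∧
      (∀ ξ : X, topologicalKrullDim ↥(closure ({ξ} : Set X)) = (d : WithBot ℕ∞) → ξ ∉ S → lenAt M ξ = 0) ∧
      IsMPolyLt d (fun n => χs k L M n - ∑ ξ ∈ S, (lenAt M ξ : ℚ) * χs k L (ClSub.quotMod (ptIdeal ξ)) n) := by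
  haveI := CurveCohLib.isNoetherian_of_proper (k := k) (X := X)
  let N : AddSubgroup ((Fin r → ℕ) → ℚ) :=
    { carrier := {f | IsMPolyLt d f}
      zero_mem' := ⟨0, degLt_zero d, fun n => by simp⟩
      add_mem' := fun h h' => h.add h'
      neg_mem' := fun {f} h => (IsMPolyLt.sub (f := 0) ⟨0, degLt_zero d, fun n => by simp⟩ h).congr
        fun n => by simp }
  obtain ⟨S, hS, h0, hmem⟩ := leading N (fun M => χs k L M) d (fun e => funext (χs_congr k e))
    (fun T hT a b c => χs_add k hL hT a b c)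
    (fun P hP hlt => isMPolyLt_of_dim_lt k hL d ⟨_, QCoh.isClosed_support_of_isFT hP.1 hP.2⟩ hlt P hP subset_rfl)
    hM hd
  refine ⟨S, hS, h0, (show IsMPolyLt d _ from hmem).congr fun n => ?_⟩
  simp [Finset.sum_apply]

/-- The coefficient of the product of the variables is the alternating sum of the values on the cube. -/
theorem coeff_eq_alt {d : ℕ} {L : Fin d → X.Modules} (hL : ∀ i, PicF.IsInvertible (L i)) {M : X.Modules}
    (hM : Coh.IsCoh M) (hd : topologicalKrullDim ↥(CohB1.support M) ≤ (d : WithBot ℕ∞))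
    (P : MvPolynomial (Fin d) ℚ)
    (hP : ∀ n : Fin d → ℕ, (Curv2.euler k X (Curv2.tensorPows M d L n) : ℚ) =
      MvPolynomial.eval (fun i => (n i : ℚ)) P) :
    P.coeff (ones d) = alt (χs k L M) := by
  haveI := CurveCohLib.isNoetherian_of_proper (k := k) (X := X)
  obtain ⟨Q, hQd, hQ⟩ := Snapper.exists_mpoly k hL hM hd
  have hPQ : P = Q := by
    refine MvPolynomial.funext_set (fun _ => Set.range ((↑) : ℕ → ℚ))
      (fun _ => Set.infinite_range_of_injective Nat.cast_injective) fun x hx => ?_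
    choose n hn using fun i => hx i (Set.mem_univ i)
    rw [← (funext hn : (fun i => (n i : ℚ)) = x), ← hP, ← hQ]
  subst hPQ
  rw [← alt_eval P fun α hα => (MvPolynomial.le_totalDegree hα).trans hQd]
  exact alt_congr fun n => (hP n).symm

theorem alt_of_isMPolyLt {d : ℕ} {f : (Fin d → ℕ) → ℚ} (h : IsMPolyLt d f) : alt f = 0 := by
  obtain ⟨Q, hQ, hf⟩ := h
  rw [alt_congr hf, alt_eval Q fun α hα => (hQ α hα).le]
  by_contra hne
  have := hQ _ (MvPolynomial.mem_support_iff.2 hne)
  simp [Finsupp.sum_fintype] at this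

/-- Intersection numbers as sums over the components of top dimension. -/
theorem alt_leading {d : ℕ} {L : Fin d → X.Modules} (hL : ∀ i, PicF.IsInvertible (L i)) {M : X.Modules}
    (hM : Coh.IsCoh M) (hd : topologicalKrullDim ↥(CohB1.support M) ≤ (d : WithBot ℕ∞))
    [∀ ξ : X, Decidable (topologicalKrullDim ↥(closure ({ξ} : Set X)) = (d : WithBot ℕ∞))] :
    alt (χs k L M) = ∑ᶠ ξ : X, if topologicalKrullDim ↥(closure ({ξ} : Set X)) = (d : WithBot ℕ∞)
      then (lenAt M ξ : ℚ) * alt (χs k L (ClSub.quotMod (ptIdeal ξ))) else 0 := by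
  obtain ⟨S, hS, h0, hpoly⟩ := χs_leading k hL hM hd
  have h := alt_of_isMPolyLt hpoly
  rw [alt_sub, sub_eq_zero] at h
  rw [finsum_topPts (M := M) _ hS h0 fun ξ hξ => by rw [hξ, Nat.cast_zero, zero_mul], h]
  unfold alt
  simp only [Finset.mul_sum]
  rw [Finset.sum_comm]
  exact Finset.sum_congr rfl fun ξ _ => Finset.sum_congr rfl fun x _ => by ring

end Groth.Agent.IntNum
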