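import Groth.Agent.IntNum.Push
import Groth.Agent.H23.ClosedPushLen
import Groth.Agent.CycLib.Supp
import Groth.Agent.CycLib.StalkSES

/-! The leading term of an additive function on coherent modules. -/

noncomputable section

set_option linter.style.haveILetI false
set_option linter.unusedSectionVars false
set_option backward.isDefEq.respectTransparency false
set_option backward.isDefEq.respectTransparency.types false

universe u v

open CategoryTheory CategoryTheory.Limits AlgebraicGeometry TopologicalSpace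

namespace Groth.Agent.IntNum

variable {X : Scheme.{u}}

/-- The length of a module at a point, as a natural number. -/
def lenAt (M : X.Modules) (ξ : X) : ℕ := (Module.length (X.presheaf.stalk ξ) (M.presheaf.stalk ξ)).toNat

theorem lenAt_eq_zero {M : X.Modules} {ξ : X} (h : ξ ∉ CohB1.support M) : lenAt M ξ = 0 := by
  haveI : Subsingleton (M.presheaf.stalk ξ) := not_not.1 h
  rw [lenAt, Module.length_eq_zero]
  rfl

/-- A closed subset of a larger dimension. -/
theorem dim_closure_lt {ξ η : X} {d : ℕ} (h : closure ({η} : Set X) ⊆ closure {ξ}) (hne : η ≠ ξ)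
    (hd : topologicalKrullDim ↥(closure ({ξ} : Set X)) ≤ (d : WithBot ℕ∞)) :
    topologicalKrullDim ↥(closure ({η} : Set X)) < (d : WithBot ℕ∞) := by
  let Z := closure ({ξ} : Set X)
  haveI : IrreducibleSpace ↥Z := isIrreducible_iff_irreducibleSpace.1 isIrreducible_singleton.closure
  let T : Set ↥Z := Subtype.val ⁻¹' closure ({η} : Set X)
  have hT : IsClosed T := isClosed_closure.preimage continuous_subtype_val
  have hTne : T ≠ Set.univ := fun he => hne (by
    have h1 : (⟨ξ, subset_closure rfl⟩ : ↥Z) ∈ T := he ▸ Set.mem_univ _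
    exact ((specializes_iff_mem_closure.2 h1).antisymm (specializes_iff_mem_closure.2 (h (subset_closure rfl)))).eq)
  have hfin : topologicalKrullDim ↥Z ≠ ⊤ := fun h => by
    rw [h] at hd
    exact absurd (WithBot.coe_le_coe.1 (hd : ((⊤ : ℕ∞) : WithBot ℕ∞) ≤ ((d : ℕ∞) : WithBot ℕ∞))) (by simp)
  have h1 := H23.TopDim.dim_lt_of_ssubset hfin hT hTne
  refine lt_of_le_of_lt ?_ (lt_of_lt_of_le h1 hd)
  let g : ↥(closure ({η} : Set X)) → ↥T := fun p => ⟨⟨p.1, h p.2⟩, p.2⟩
  have hcomp : Topology.IsInducing ((Subtype.val ∘ Subtype.val : ↥T → X) ∘ g) :=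
    show Topology.IsInducing (Subtype.val : ↥(closure ({η} : Set X)) → X) from Topology.IsInducing.subtypeVal
  exact ((Topology.IsInducing.subtypeVal.comp Topology.IsInducing.subtypeVal).of_comp_iff.1 hcomp).topologicalKrullDim_le

/-- The points of a closed set whose closures have the top dimension. -/
def topPts (C : Set X) (d : ℕ) : Set X :=
  {ξ | ξ ∈ C ∧ topologicalKrullDim ↥(closure ({ξ} : Set X)) = (d : WithBot ℕ∞)}

theorem eq_of_specializes_topPts {C : Set X} (hC : IsClosed C) {d : ℕ}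
    (hd : topologicalKrullDim ↥C ≤ (d : WithBot ℕ∞)) {ξ η : X} (hξ : ξ ∈ topPts C d) (hη : η ∈ C)
    (h : η ⤳ ξ) : η = ξ := by
  by_contra hne
  exact (dim_closure_lt (specializes_iff_closure_subset.1 h) (fun e => hne e.symm)
    ((H23.TopDim.dim_le_dim_of_subset (hC.closure_subset_iff.2 (Set.singleton_subset_iff.2 hη))).trans hd)).ne hξ.2

theorem finite_topPts [IsNoetherian X] {C : Set X} (hC : IsClosed C) {d : ℕ}
    (hd : topologicalKrullDim ↥C ≤ (d : WithBot ℕ∞)) : (topPts C d).Finite := by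
  have hfin : (irreducibleComponents ↥C).Finite := NoetherianSpace.finite_irreducibleComponents
  refine Set.Finite.of_finite_image (f := fun ξ => (Subtype.val ⁻¹' closure ({ξ} : Set X) : Set ↥C))
    (hfin.subset ?_) ?_
  · rintro _ ⟨ξ, hξ, rfl⟩
    have he : (Subtype.val ⁻¹' closure ({ξ} : Set X) : Set ↥C) = closure {(⟨ξ, hξ.1⟩ : ↥C)} := by
      rw [Topology.IsInducing.subtypeVal.closure_eq_preimage_closure_image, Set.image_singleton]
    refine ⟨by show IsIrreducible (Subtype.val ⁻¹' closure ({ξ} : Set X) : Set ↥C); rw [he]; exact isIrreducible_singleton.closure, fun T hT hle => ?_⟩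
    haveI : QuasiSober ↥C := hC.isClosedEmbedding_subtypeVal.quasiSober
    obtain ⟨η, hη⟩ := QuasiSober.sober hT.closure isClosed_closure
    have hsp : η ⤳ (⟨ξ, hξ.1⟩ : ↥C) := hη.specializes (subset_closure (hle (by
      show ξ ∈ closure ({ξ} : Set X); exact subset_closure rfl)))
    have : η = (⟨ξ, hξ.1⟩ : ↥C) :=
      Subtype.ext (eq_of_specializes_topPts hC hd hξ η.2 (hsp.map continuous_subtype_val))
    subst this
    show T ⊆ Subtype.val ⁻¹' closure ({ξ} : Set X)
    rw [he, hη.def]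
    exact subset_closure
  · intro a ha b hb hab
    have h1 : (⟨a, ha.1⟩ : ↥C) ∈ (Subtype.val ⁻¹' closure ({b} : Set X) : Set ↥C) := by
      rw [← show (Subtype.val ⁻¹' closure ({a} : Set X) : Set ↥C) = Subtype.val ⁻¹' closure {b} from hab]
      exact subset_closure (Set.mem_singleton a)
    exact (eq_of_specializes_topPts hC hd ha hb.1 (specializes_iff_mem_closure.2 h1)).symm

theorem lenAt_shortExact [IsNoetherian X] {C : Set X} (hC : IsClosed C) {d : ℕ}
    (hd : topologicalKrullDim ↥C ≤ (d : WithBot ℕ∞)) {S : ShortComplex X.Modules} (hS : S.ShortExact)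
    (h₁ : Coh.IsCoh S.X₁) (h₂ : Coh.IsCoh S.X₂) (h₃ : Coh.IsCoh S.X₃)
    (hsupp : CohB1.support S.X₂ ⊆ C) {ξ : X} (hξ : ξ ∈ topPts C d) :
    lenAt S.X₂ ξ = lenAt S.X₁ ξ + lenAt S.X₃ ξ := by
  have e := CycLib.length_stalk_shortExact hS h₁.1 h₂.1 h₃.1 ξ
  have hfin := CycLib.length_stalk_lt_top S.X₂ h₂ (ξ := ξ) fun y hy hyξ =>
    eq_of_specializes_topPts hC hd hξ (hsupp (not_subsingleton_iff_nontrivial.2 hy)) hyξ
  rw [e] at hfin
  have hlt := WithTop.add_ne_top.1 hfin.ne
  unfold lenAt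
  rw [e, ENat.toNat_add hlt.1 hlt.2]

/-- The pushed forward structure sheaf of an integral scheme has length one at the generic point. -/
theorem lenAt_push_structure {Z : Scheme.{u}} [IsIntegral Z] (i : Z ⟶ X) [IsClosedImmersion i] :
    lenAt ((Coh.push i).obj (Coh.structureModule Z)) (i (genericPoint Z)) = 1 := by
  rw [lenAt, H23.ClosedPushLen.length_stalk, H23.ClosedPushLen.length_structureModule]
  haveI : IsSimpleModule (Z.presheaf.stalk (genericPoint Z)) (Z.presheaf.stalk (genericPoint Z)) := by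
    have hf : IsField (Z.presheaf.stalk (genericPoint Z)) := CurveBundle.isField_stalk_generic
    letI := hf.toField
    infer_instance
  rw [Module.length_eq_one]
  rfl

/-- An additive function on coherent modules agrees, modulo a subgroup containing its values on modules of
smaller support, with the sum over the components of top dimension. -/
theorem leading {A : Type v} [AddCommGroup A] (N : AddSubgroup A) [IsNoetherian X] (φ : X.Modules → A) (d : ℕ)
    (hiso : ∀ {M M' : X.Modules}, (M ≅ M') → φ M = φ M')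
    (hadd : ∀ S : ShortComplex X.Modules, S.ShortExact → Coh.IsCoh S.X₁ → Coh.IsCoh S.X₂ → Coh.IsCoh S.X₃ →
      φ S.X₂ = φ S.X₁ + φ S.X₃)
    (hsmall : ∀ M : X.Modules, Coh.IsCoh M →
      topologicalKrullDim ↥(CohB1.support M) < (d : WithBot ℕ∞) → φ M ∈ N)
    {M : X.Modules} (hM : Coh.IsCoh M) (hd : topologicalKrullDim ↥(CohB1.support M) ≤ (d : WithBot ℕ∞)) :
    ∃ S : Finset X, (∀ ξ ∈ S, topologicalKrullDim ↥(closure ({ξ} : Set X)) = (d : WithBot ℕ∞)) ∧
      (∀ ξ : X, topologicalKrullDim ↥(closure ({ξ} : Set X)) = (d : WithBot ℕ∞) → ξ ∉ S → lenAt M ξ = 0) ∧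
      φ M - ∑ ξ ∈ S, lenAt M ξ • φ (ClSub.quotMod (ptIdeal ξ)) ∈ N := by
  classical
  let C : Set X := CohB1.support M
  have hC : IsClosed C := QCoh.isClosed_support_of_isFT hM.1 hM.2
  obtain ⟨S, hS⟩ := (finite_topPts hC hd).exists_finset_coe
  have hmem : ∀ {ξ : X}, ξ ∈ S ↔ ξ ∈ topPts C d := fun {ξ} => by rw [← hS, Finset.mem_coe]
  let Φ : X.Modules → A := fun M => φ M - ∑ ξ ∈ S, lenAt M ξ • φ (ClSub.quotMod (ptIdeal ξ))
  refine ⟨S, fun ξ hξ => (hmem.1 hξ).2, fun ξ hc hξ => lenAt_eq_zero fun h => hξ (hmem.2 ⟨h, hc⟩), ?_⟩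
  show Φ M ∈ N
  have hPhiAdd : ∀ T : ShortComplex X.Modules, T.ShortExact → Coh.IsCoh T.X₁ → Coh.IsCoh T.X₂ →
      Coh.IsCoh T.X₃ → CohB1.support T.X₂ ⊆ C → Φ T.X₂ = Φ T.X₁ + Φ T.X₃ := fun T hT a b c hsupp => by
    simp only [Φ, hadd T hT a b c]
    rw [Finset.sum_congr rfl fun ξ hξ => by rw [lenAt_shortExact hC hd hT a b c hsupp (hmem.1 hξ), add_smul],
      Finset.sum_add_distrib]
    abel
  refine QCoh.devissage (fun M => Φ M ∈ N) ?_ ?_ C ?_ ?_ ?_ hM le_rfl
  · rintro P Q ⟨e⟩ h
    have he : ∀ ξ, lenAt Q ξ = lenAt P ξ := fun ξ => by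
      unfold lenAt
      exact congrArg ENat.toNat
        (LinearEquiv.length_eq ((DerSch.stalkFunctor X ξ).mapIso e).toLinearEquiv).symm
    show φ Q - _ ∈ N
    simp only [he, ← hiso e]
    exact h
  · intro P h
    have hs : CohB1.support P = ∅ := Set.eq_empty_of_forall_notMem fun x hx => hx
      (ModuleCat.subsingleton_of_isZero (Functor.map_isZero (DerSch.stalkFunctor X x) h))
    show φ P - _ ∈ N
    rw [Finset.sum_eq_zero fun ξ _ => by rw [lenAt_eq_zero (hs ▸ Set.notMem_empty ξ), zero_smul], sub_zero]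
    refine hsmall P (QCoh.isCoh_isZero h hM) ?_
    rw [hs]
    haveI : IsEmpty (IrreducibleCloseds ↥(∅ : Set X)) := ⟨fun Z => Z.isIrreducible.nonempty.choose.2⟩
    exact lt_of_eq_of_lt Order.krullDim_eq_bot (WithBot.bot_lt_coe _)
  · intro T hT a b c hsupp h1 h3
    rw [hPhiAdd T hT a b c hsupp]
    exact N.add_mem h1 h3
  · intro η hη _ Z i _ _ hr
    set G := (Coh.push i).obj (Coh.structureModule Z) with hGdef
    have hG : Coh.IsCoh G := QCoh.isCoh_push_structure i
    have hGs : CohB1.support G ⊆ closure ({η} : Set X) :=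
      hr ▸ QCoh.support_push_subset i QCoh.isQCoh_structureModule
    have hgen : i (genericPoint Z) = η := by
      have h := (QCoh.range_eq_closure i).symm.trans hr
      exact (inseparable_iff_closure_eq.2 h).eq
    have hle : topologicalKrullDim ↥(closure ({η} : Set X)) ≤ (d : WithBot ℕ∞) :=
      (H23.TopDim.dim_le_dim_of_subset hη).trans hd
    have hzero : ∀ ξ ∈ S, ξ ≠ η → lenAt G ξ = 0 := fun ξ hξ hne => lenAt_eq_zero fun h => hne
      (eq_of_specializes_topPts hC hd (hmem.1 hξ) (hη (subset_closure rfl))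
        (specializes_iff_mem_closure.2 (hGs h))).symm
    show φ G - _ ∈ N
    by_cases hc : topologicalKrullDim ↥(closure ({η} : Set X)) = (d : WithBot ℕ∞)
    · have hηS : η ∈ S := hmem.2 ⟨hη (subset_closure rfl), hc⟩
      rw [Finset.sum_eq_single_of_mem η hηS fun ξ hξ hne => by rw [hzero ξ hξ hne, zero_smul],
        show lenAt G η = 1 from hgen ▸ lenAt_push_structure i, one_smul]
      obtain ⟨e⟩ : Nonempty (G ≅ ClSub.quotMod (ptIdeal η)) := by
        haveI : IsIntegral (ptIdeal η).subscheme := QCoh.isIntegral_closure_point η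
        exact QCoh.push_structure_iso (ptIdeal η).subschemeι i (by rw [range_ptIdeal, hr])
      rw [hiso e, sub_self]
      exact N.zero_mem
    · rw [Finset.sum_eq_zero fun ξ hξ => by
        rw [hzero ξ hξ (fun e => hc (e ▸ (hmem.1 hξ).2)), zero_smul], sub_zero]
      exact hsmall G hG (lt_of_le_of_lt (H23.TopDim.dim_le_dim_of_subset hGs) (lt_of_le_of_ne hle hc))
  · intro T hT a b c hsupp h2 h3
    have := hPhiAdd T hT a b c hsupp
    rw [eq_comm, ← eq_sub_iff_add_eq] at this
    rw [this]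
    exact N.sub_mem h2 h3

/-- Sums over the points of top dimension. -/
theorem finsum_topPts {B : Type v} [AddCommMonoid B] {M : X.Modules} {d : ℕ} {S : Finset X} (g : X → B)
    (hS : ∀ ξ ∈ S, topologicalKrullDim ↥(closure ({ξ} : Set X)) = (d : WithBot ℕ∞))
    (h0 : ∀ ξ : X, topologicalKrullDim ↥(closure ({ξ} : Set X)) = (d : WithBot ℕ∞) → ξ ∉ S → lenAt M ξ = 0)
    (hg : ∀ ξ, lenAt M ξ = 0 → g ξ = 0) [∀ ξ : X, Decidable (topologicalKrullDim ↥(closure ({ξ} : Set X)) = (d : WithBot ℕ∞))] :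
    (∑ᶠ ξ : X, if topologicalKrullDim ↥(closure ({ξ} : Set X)) = (d : WithBot ℕ∞) then g ξ else 0) =
      ∑ ξ ∈ S, g ξ := by
  rw [finsum_eq_sum_of_support_subset _ (s := S) ?_]
  · exact Finset.sum_congr rfl fun ξ hξ => if_pos (hS ξ hξ)
  · intro ξ hξ
    rw [Function.mem_support] at hξ
    by_contra h
    by_cases hc : topologicalKrullDim ↥(closure ({ξ} : Set X)) = (d : WithBot ℕ∞)
    · exact hξ (by rw [if_pos hc, hg ξ (h0 ξ hc h)])
    · exact hξ (if_neg hc)

end Groth.Agent.IntNum
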