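import Groth.Agent.AssPtX.Noeth
import Groth.Agent.IntNum.Push
import Groth.Agent.Lib.CurveTensor
import Groth.Agent.AmpleX.FiniteSet
import Groth.Agent.HilbPoly.Pos
import Groth.Agent.CurveCohLib.Euler
import Groth.Agent.CurveCohLib.Proper
import Groth.Agent.Lib.CurveDeg
import Groth.Agent.AmpleVan.Uniform
import Groth.Agent.KFlatLib.Perfect.Spread
import Mathlib.AlgebraicGeometry.Morphisms.Finite
import Mathlib.AlgebraicGeometry.Morphisms.QuasiFinite
import Mathlib.RingTheory.Filtration

/-! Negative twists of a coherent module without closed associated points have no sections. -/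

noncomputable section

set_option linter.style.haveILetI false
set_option backward.isDefEq.respectTransparency false
set_option backward.isDefEq.respectTransparency.types false

universe u

open CategoryTheory CategoryTheory.Limits AlgebraicGeometry TopologicalSpace MonoidalCategory
open Groth.Agent.PnCoh.Finite (mapLin)

namespace Groth.Agent.IntNum

variable {X : Scheme.{u}}

theorem isWeakAssPoint_of_iso {F G : X.Modules} (e : F ≅ G) {x : X} (h : Curv2.IsWeakAssPoint F x) :
    Curv2.IsWeakAssPoint G x := by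
  obtain ⟨m, hm⟩ := h
  let el := ((DerSch.stalkFunctor X x).mapIso e).toLinearEquiv
  refine ⟨el m, ?_⟩
  rw [← hm]
  congr 1
  ext a
  simp only [LinearMap.mem_ker, LinearMap.toSpanSingleton_apply]
  exact ⟨fun h => el.injective (by rw [map_smul]; exact h.trans (map_zero el).symm),
    fun h => by
      have h2 := congrArg el h
      rw [map_smul, map_zero] at h2
      exact h2⟩

theorem isWeakAssPoint_of_tensor_invertible {D : X.Modules} (hD : PicF.IsInvertible D) {F : X.Modules}
    {x : X} (h : Curv2.IsWeakAssPoint (CohB1.tensorMod F D) x) : Curv2.IsWeakAssPoint F x := by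
  obtain ⟨b⟩ := CurveTensor.exists_basis_stalk (InvEnd.isFinLocFreeOfRank_one hD) x
  obtain ⟨m, hm⟩ := isWeakAssPoint_of_iso (CurveTensor.commIso F D) h
  let e : (((DCoh.tensorBi.obj D).obj F).presheaf.stalk x) ≃ₗ[X.presheaf.stalk x] (F.presheaf.stalk x : Type u) :=
    (KFlatLib.stalkTensorIso x D F).symm.toLinearEquiv ≪≫ₗ
      TensorProduct.congr b.equivFun (LinearEquiv.refl _ _) ≪≫ₗ
      TensorProduct.comm (X.presheaf.stalk x) (Fin 1 → X.presheaf.stalk x) (F.presheaf.stalk x) ≪≫ₗ
      TensorProduct.piScalarRight (X.presheaf.stalk x) (X.presheaf.stalk x) (F.presheaf.stalk x) (Fin 1) ≪≫ₗ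
      LinearEquiv.funUnique (Fin 1) (X.presheaf.stalk x) (F.presheaf.stalk x)
  refine ⟨e m, ?_⟩
  rw [← hm]
  congr 1
  ext a
  simp only [LinearMap.mem_ker, LinearMap.toSpanSingleton_apply]
  exact ⟨fun h => e.injective (by rw [map_smul]; exact h.trans (map_zero e).symm),
    fun h => by
      have h2 := congrArg e h
      rw [map_smul, map_zero] at h2
      exact h2⟩

/-- The step `G ⊗ D → G` attached to `c : D → O`. -/
def step {D : X.Modules} (c : D ⟶ Coh.structureModule X) (G : X.Modules) : CohB1.tensorMod G D ⟶ G :=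
  ((DCoh.tensorBi (X := X)).obj G).map c ≫ AmpleVan.twUnit.hom.app G

/-- The repeated twists. -/
def itG (D G : X.Modules) : ℕ → X.Modules
  | 0 => G
  | i + 1 => CohB1.tensorMod (itG D G i) D

/-- The composite `G ⊗ D^i → G`. -/
def itf {D : X.Modules} (c : D ⟶ Coh.structureModule X) (G : X.Modules) : ∀ i, itG D G i ⟶ G
  | 0 => 𝟙 G
  | i + 1 => step c (itG D G i) ≫ itf c G i

/-- Elements in the image of a map are contained in a power of the maximal ideal. -/
theorem itf_mem {D : X.Modules} (c : D ⟶ Coh.structureModule X) (G : X.Modules) {y : X}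
    (hc : ∀ p, (DerSch.stalkFunctor X y).map c p ∈
      IsLocalRing.maximalIdeal (X.presheaf.stalk y) • (⊤ : Submodule (X.presheaf.stalk y) _)) :
    ∀ i z, (DerSch.stalkFunctor X y).map (itf c G i) z ∈
      IsLocalRing.maximalIdeal (X.presheaf.stalk y) ^ i • (⊤ : Submodule (X.presheaf.stalk y) _)
  | 0, z => by
    rw [pow_zero, Submodule.one_smul]
    exact Submodule.mem_top
  | i + 1, z => by
    let Φ := DerSch.stalkFunctor X y
    let 𝔪 := IsLocalRing.maximalIdeal (X.presheaf.stalk y)
    let e₁ : Φ.obj (CohB1.tensorMod (itG D G i) D) ≅ (Φ.obj (itG D G i) ⊗ Φ.obj D : ModuleCat _) :=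
      (KFlatLib.stalkTensorLeftIso (itG D G i) y).app D
    let e₂ := (KFlatLib.stalkTensorLeftIso (itG D G i) y).app (Coh.structureModule X)
    have h1 : Φ.map (step c (itG D G i)) z ∈ 𝔪 • (⊤ : Submodule (X.presheaf.stalk y) (Φ.obj (itG D G i))) := by
      have hnat := (KFlatLib.stalkTensorLeftIso (itG D G i) y).hom.naturality c
      have h2 : Φ.map (step c (itG D G i)) z =
          Φ.map (AmpleVan.twUnit.hom.app (itG D G i)) (e₂.inv ((Φ.obj (itG D G i) ◁ Φ.map c) (e₁.hom z))) := by
        rw [step, Functor.map_comp]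
        refine congrArg (fun w => Φ.map (AmpleVan.twUnit.hom.app (itG D G i)) w) ?_
        exact (e₂.hom_inv_id_apply _).symm.trans (congrArg e₂.inv (ConcreteCategory.congr_hom hnat z))
      rw [h2]
      have h3 := HilbPoly.mem_smul_top_of_tensor 𝔪 (M := Φ.obj (itG D G i)) (Φ.map c) hc (e₁.hom z)
      have h4 := Submodule.mem_map_of_mem (f := (Φ.map (AmpleVan.twUnit.hom.app (itG D G i))).hom ∘ₗ e₂.inv.hom) h3
      rw [Submodule.map_smul''] at h4
      exact Submodule.smul_mono le_rfl le_top h4
    show Φ.map (step c (itG D G i) ≫ itf c G i) z ∈ _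
    rw [Functor.map_comp, pow_succ']
    have h5 := Submodule.mem_map_of_mem (f := (Φ.map (itf c G i)).hom) h1
    rw [Submodule.map_smul''] at h5
    have h6 : (⊤ : Submodule (X.presheaf.stalk y) (Φ.obj (itG D G i))).map (Φ.map (itf c G i)).hom ≤
        𝔪 ^ i • (⊤ : Submodule (X.presheaf.stalk y) (Φ.obj G)) := by
      rintro _ ⟨w, -, rfl⟩
      exact itf_mem c G hc i w
    have h7 := Submodule.smul_mono (le_refl 𝔪) h6 h5
    rw [← Submodule.mul_smul] at h7
    exact h7

variable (k : Type u) [Field k] [X.Over (Spec (CommRingCat.of k))] [IsProper (X ↘ Spec (CommRingCat.of k))]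

include k in
theorem isCoh_itG {D G : X.Modules} (hD : PicF.IsInvertible D) (hG : Coh.IsCoh G) : ∀ i, Coh.IsCoh (itG D G i)
  | 0 => hG
  | i + 1 => by
    haveI := CurveCohLib.isNoetherian_of_proper (k := k) (X := X)
    exact AmpleVan.isCoh_tensor (isCoh_itG hD hG i) (AmpleVan.isCoh_invertible hD)

theorem isWeakAssPoint_itG {D G : X.Modules} (hD : PicF.IsInvertible D) {x : X} :
    ∀ i, Curv2.IsWeakAssPoint (itG D G i) x → Curv2.IsWeakAssPoint G x
  | 0, h => h
  | i + 1, h => isWeakAssPoint_itG hD i (isWeakAssPoint_of_tensor_invertible hD h)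

include k in
/-- A point whose closure lies in an affine open is closed. -/
theorem isClosed_of_closure_subset_affine {V : X.Opens} (hV : IsAffineOpen V) {x : X}
    (h : closure ({x} : Set X) ⊆ V) : IsClosed ({x} : Set X) := by
  let Z : X.IdealSheafData := ptIdeal x
  haveI : IsAffine V.toScheme := hV
  have hr : Set.range Z.subschemeι = closure ({x} : Set X) := range_ptIdeal x
  let g : Z.subscheme ⟶ V.toScheme := IsOpenImmersion.lift V.ι Z.subschemeι
    (by rw [Scheme.Opens.range_ι, hr]; exact h)
  haveI : IsClosedImmersion g := by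
    haveI : IsClosedImmersion (g ≫ V.ι) := by rw [IsOpenImmersion.lift_fac]; infer_instance
    exact IsClosedImmersion.of_comp g V.ι
  haveI : IsAffine Z.subscheme := isAffine_of_isAffineHom g
  haveI : IsProper (Z.subschemeι ≫ (X ↘ Spec (CommRingCat.of k))) := inferInstance
  haveI : IsAffineHom (Z.subschemeι ≫ (X ↘ Spec (CommRingCat.of k))) := inferInstance
  haveI : IsFinite (Z.subschemeι ≫ (X ↘ Spec (CommRingCat.of k))) :=
    IsFinite.iff_isProper_and_isAffineHom.2 ⟨inferInstance, inferInstance⟩
  have hfin : (closure ({x} : Set X)).Finite := by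
    rw [← hr]
    haveI : Finite Z.subscheme := by
      have h0 := (Z.subschemeι ≫ (X ↘ Spec (CommRingCat.of k))).finite_preimage_singleton
      refine Set.finite_univ_iff.1 ((Set.toFinite (Set.univ : Set (Spec (CommRingCat.of k)))).biUnion
        (t := fun y => (Z.subschemeι ≫ (X ↘ Spec (CommRingCat.of k))) ⁻¹' {y}) (fun y _ => h0 y) |>.subset
          fun z _ => Set.mem_biUnion (Set.mem_univ _) rfl)
    exact Set.finite_range _
  haveI : LocallyOfFiniteType (X ↘ Spec (CommRingCat.of k)) := inferInstance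
  haveI : JacobsonSpace X := LocallyOfFiniteType.jacobsonSpace (X ↘ Spec (CommRingCat.of k))
  have hcl : closure ({x} : Set X) = closure ((closure ({x} : Set X)) ∩ closedPoints X) :=
    (closure_inter_closedPoints isClosed_closure).symm
  have hc : IsClosed ((closure ({x} : Set X)) ∩ closedPoints X) :=
    ((hfin.inter_of_left _).isClosed_biUnion (f := fun p => ({p} : Set X)) fun p hp => hp.2) |> fun h =>
      by rwa [Set.biUnion_of_singleton] at h
  rw [hc.closure_eq] at hcl
  have : x ∈ closedPoints X := ((hcl ▸ subset_closure rfl : x ∈ closure ({x} : Set X) ∩ closedPoints X)).2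
  exact this

/-- A section with coordinate in the maximal ideal. -/
theorem mem_smul_of_germ {N : X.Modules} (s : Coh.structureModule X ⟶ N) {x : X} {W : X.Opens} (hxW : x ∈ W)
    (e : Γ(N, W)) {g : Γ(X, W)} (hg : AModX.res N (le_top : W ≤ ⊤) (InvX.one s) = g • e)
    (hgm : X.presheaf.germ W x hxW g ∈ IsLocalRing.maximalIdeal (X.presheaf.stalk x)) :
    ∀ q, (DerSch.stalkFunctor X x).map s q ∈
      IsLocalRing.maximalIdeal (X.presheaf.stalk x) • (⊤ : Submodule (X.presheaf.stalk x) _) := by
  intro p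
  obtain ⟨V, hxV, r, rfl⟩ := (Coh.structureModule X).presheaf.germ_exist p
  let W' := V ⊓ W
  have hxW' : x ∈ W' := ⟨hxV, hxW⟩
  rw [← (Coh.structureModule X).presheaf.germ_res_apply (homOfLE (inf_le_left : W' ≤ V)) x hxW' r]
  generalize (Coh.structureModule X).presheaf.map (homOfLE (inf_le_left : W' ≤ V)).op r = r'
  erw [DerSch.stalkFunctor_map_germ, InvX.app_eq_smul s (show Γ(X, W') from r')]
  have h2 : AModX.res N (le_top : W' ≤ ⊤) (InvX.one s) =
      X.presheaf.map (homOfLE (inf_le_right : W' ≤ W)).op g • AModX.res N (inf_le_right : W' ≤ W) e := by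
    have h3 := congrArg (AModX.res N (inf_le_right : W' ≤ W)) hg
    rw [AModX.res_res, AModX.res_smul] at h3
    exact h3
  rw [h2]
  erw [PresheafOfModules.germ_smul, PresheafOfModules.germ_smul]
  refine Submodule.smul_mem _ _ (Submodule.smul_mem_smul ?_ Submodule.mem_top)
  erw [X.presheaf.germ_res_apply]
  exact hgm

include k in
/-- Negative twists of a module without closed associated points have no sections. -/
theorem exists_h0_itG_eq_zero {D N : X.Modules} (hD : PicF.IsInvertible D) (hN : PicF.IsInvertible N)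
    (s : Coh.structureModule X ⟶ N) (hs : IsAffineOpen (CohB1.genLocus N s))
    (u : CohB1.tensorMod D N ≅ Coh.structureModule X) {G : X.Modules} (hG : Coh.IsCoh G)
    (hass : ∀ x : X, Curv2.IsWeakAssPoint G x → x ∈ CohB1.genLocus N s ∧ ¬ IsClosed ({x} : Set X)) :
    ∃ i₀ : ℕ, ∀ i, i₀ ≤ i → Subsingleton (Coh.HH X (itG D G i) 0) := by
  haveI := CurveCohLib.isNoetherian_of_proper (k := k) (X := X)
  let c : D ⟶ Coh.structureModule X := AmpleVan.twUnit.inv.app D ≫ ((DCoh.tensorBi (X := X)).obj D).map s ≫ u.hom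
  -- the maps are injective
  haveI hstep : ∀ i, Mono (step c (itG D G i)) := fun i => by
    refine AssPtX.mono_of_stalk _ (isCoh_itG k hD hG (i + 1)).1 fun x => ?_
    by_cases hx : Curv2.IsWeakAssPoint (itG D G (i + 1)) x
    · left
      have hxV := (hass x (isWeakAssPoint_itG hD (i + 1) hx)).1
      obtain ⟨W, hW, hxW⟩ : ∃ W : X.Opens, IsIso ((Scheme.Modules.restrictFunctor W.ι).map s) ∧ x ∈ W :=
        Opens.mem_sSup.1 hxV
      haveI := hW
      haveI : IsIso ((DerSch.stalkFunctor X x).map s) := KFlatLib.isIso_stalk_of_restrict s hxW inferInstance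
      haveI : IsIso ((DerSch.stalkFunctor X x).map (((DCoh.tensorBi (X := X)).obj D).map s)) :=
        (NatIso.isIso_map_iff (KFlatLib.stalkTensorLeftIso D x) s).2 (by
          simp only [Functor.comp_map]; infer_instance)
      haveI : IsIso ((DerSch.stalkFunctor X x).map c) := by
        simp only [c, Functor.map_comp]; infer_instance
      haveI : IsIso ((DerSch.stalkFunctor X x).map (((DCoh.tensorBi (X := X)).obj (itG D G i)).map c)) :=
        (NatIso.isIso_map_iff (KFlatLib.stalkTensorLeftIso (itG D G i) x) c).2 (by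
          simp only [Functor.comp_map]; infer_instance)
      haveI : IsIso ((DerSch.stalkFunctor X x).map (step c (itG D G i))) := by
        rw [step, Functor.map_comp]; infer_instance
      exact (asIso ((DerSch.stalkFunctor X x).map (step c (itG D G i)))).toLinearEquiv.injective
    · exact Or.inr hx
  haveI hmono : ∀ i, Mono (itf c G i) := fun i => by
    induction i with
    | zero => show Mono (𝟙 G); infer_instance
    | succ i ih => haveI := ih; show Mono (step c (itG D G i) ≫ itf c G i); infer_instance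
  haveI := CurveCohLib.finite_HH (k := k) hG 0
  let V : ℕ → Submodule k (Coh.HH X G 0) := fun i => LinearMap.range (mapLin k (itf c G i) 0)
  have hanti : ∀ i, V (i + 1) ≤ V i := by
    rintro i _ ⟨w, rfl⟩
    refine ⟨mapLin k (step c (itG D G i)) 0 w, ?_⟩
    exact PnCoh.Finite.map_map (Y := X.toPresheafedSpace.carrier) ((QCoh.toAbFunctor X).map_comp _ _).symm 0 w
  obtain ⟨i₀, hi₀⟩ := IsArtinian.monotone_stabilizes (R := k) (M := Coh.HH X G 0)
    ⟨fun i => OrderDual.toDual (V i), monotone_nat_of_le_succ fun i => hanti i⟩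
  refine ⟨i₀, fun i hi => subsingleton_of_forall_eq 0 fun w => ?_⟩
  apply CurveCohLib.mapLin_f_zero_injective k (CurveSlope.shortExact_cokernel_of_mono (itf c G i))
  rw [map_zero]
  let t := Sheaf.H.equiv₀ (Coh.toAb G) isTerminalTop (mapLin k (itf c G i) 0 w)
  suffices h : (t : Γ(G, ⊤)) = 0 from
    (Sheaf.H.equiv₀ (Coh.toAb G) isTerminalTop).injective (h.trans (map_zero _).symm)
  refine AssPtX.eq_zero_of_germ hG.1 _ fun x _ hx => ?_
  obtain ⟨hxV, hxc⟩ := hass x hx
  obtain ⟨y, hyx, hy⟩ : ∃ y, x ⤳ y ∧ y ∉ CohB1.genLocus N s := by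
    by_contra hcon
    push Not at hcon
    exact hxc (isClosed_of_closure_subset_affine k hs fun y hy => hcon y (specializes_iff_mem_closure.2 hy))
  have hc : ∀ p, (DerSch.stalkFunctor X y).map c p ∈
      IsLocalRing.maximalIdeal (X.presheaf.stalk y) • (⊤ : Submodule (X.presheaf.stalk y) _) := fun p => by
    obtain ⟨W, hyW, e, he⟩ := InvX.exists_frame hN y
    obtain ⟨g, hg⟩ := he.exists_coord le_rfl (AModX.res N (le_top : W ≤ ⊤) (InvX.one s))
    rw [AModX.res_self] at hg
    have hgm : X.presheaf.germ W y hyW g ∈ IsLocalRing.maximalIdeal (X.presheaf.stalk y) := by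
      refine (IsLocalRing.mem_maximalIdeal _).2 fun hu => hy ?_
      exact ((InvX.genLocus_inf s he hg).ge ((X.mem_basicOpen g y hyW).2 hu)).1
    have hsy : ∀ q, (DerSch.stalkFunctor X y).map s q ∈
        IsLocalRing.maximalIdeal (X.presheaf.stalk y) • (⊤ : Submodule (X.presheaf.stalk y) _) :=
      mem_smul_of_germ s hyW e hg hgm
    let Φ := DerSch.stalkFunctor X y
    let 𝔪 := IsLocalRing.maximalIdeal (X.presheaf.stalk y)
    let e₁ := (KFlatLib.stalkTensorLeftIso D y).app (Coh.structureModule X)
    let e₂ := (KFlatLib.stalkTensorLeftIso D y).app N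
    have h3 := HilbPoly.mem_smul_top_of_tensor 𝔪 (M := Φ.obj D) (Φ.map s) hsy
      (e₁.hom (Φ.map (AmpleVan.twUnit.inv.app D) p))
    have h4 := Submodule.mem_map_of_mem (f := (Φ.map u.hom).hom ∘ₗ e₂.inv.hom) h3
    rw [Submodule.map_smul''] at h4
    have h5 : Φ.map c p = Φ.map u.hom (e₂.inv ((Φ.obj D ◁ Φ.map s) (e₁.hom (Φ.map (AmpleVan.twUnit.inv.app D) p)))) := by
      simp only [c, Functor.map_comp]
      refine congrArg (fun q => Φ.map u.hom q) ?_
      exact (e₂.hom_inv_id_apply _).symm.trans (congrArg e₂.inv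
        (ConcreteCategory.congr_hom ((KFlatLib.stalkTensorLeftIso D y).hom.naturality s) _))
    rw [h5]
    exact Submodule.smul_mono le_rfl le_top h4
  have hmem : ∀ j, i₀ ≤ j → G.presheaf.germ ⊤ y trivial t ∈
      IsLocalRing.maximalIdeal (X.presheaf.stalk y) ^ j • (⊤ : Submodule (X.presheaf.stalk y) _) := fun j hj => by
    have h1 : mapLin k (itf c G i) 0 w ∈ V j := by
      have e1 : V i₀ = V i := congrArg OrderDual.ofDual (hi₀ i hi)
      have e2 : V i₀ = V j := congrArg OrderDual.ofDual (hi₀ j hj)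
      rw [← e2, e1]; exact ⟨w, rfl⟩
    obtain ⟨v, hv⟩ := h1
    have h2 : (itf c G j).app ⊤ (Sheaf.H.equiv₀ (Coh.toAb (itG D G j)) isTerminalTop v : Γ(itG D G j, ⊤)) = t := by
      refine (Sheaf.H.equiv₀_naturality isTerminalTop ((QCoh.toAbFunctor X).map (itf c G j)) v).trans ?_
      exact congrArg (Sheaf.H.equiv₀ (Coh.toAb G) isTerminalTop) hv
    rw [← h2]
    have h3 := itf_mem c G hc j ((itG D G j).presheaf.germ ⊤ y trivial
      (Sheaf.H.equiv₀ (Coh.toAb (itG D G j)) isTerminalTop v : Γ(itG D G j, ⊤)))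
    erw [DerSch.stalkFunctor_map_germ] at h3
    exact h3
  haveI : Module.Finite (X.presheaf.stalk y) ((DerSch.stalkFunctor X y).obj G) := by
    haveI : SheafOfModules.IsFiniteType (R := X.ringCatSheaf) G := hG.2
    exact FDescent.finite_stalk G y
  have hzero : G.presheaf.germ ⊤ y trivial t = 0 := by
    have h1 : G.presheaf.germ ⊤ y trivial t ∈
        (⨅ j, IsLocalRing.maximalIdeal (X.presheaf.stalk y) ^ j • (⊤ : Submodule (X.presheaf.stalk y) ((DerSch.stalkFunctor X y).obj G))) :=
      Submodule.mem_iInf _ |>.2 fun j => Submodule.smul_mono (Ideal.pow_le_pow_right (le_max_left j i₀)) le_rfl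
        (hmem (max j i₀) (le_max_right j i₀))
    rw [Ideal.iInf_pow_smul_eq_bot_of_isLocalRing _ (IsLocalRing.maximalIdeal.isMaximal _).ne_top] at h1
    exact h1
  have h2 := G.presheaf.germ_stalkSpecializes_apply (U := ⊤) (show y ∈ (⊤ : X.Opens) from trivial) hyx t
  rw [hzero, map_zero] at h2
  exact h2.symm

end Groth.Agent.IntNum
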