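import Groth.Agent.IntNum.Main
import Groth.Agent.Lib.CurveTensor

/-! Splitting off the first twist. -/

noncomputable section

set_option linter.style.haveILetI false
set_option backward.isDefEq.respectTransparency false
set_option backward.isDefEq.respectTransparency.types false

universe u

open CategoryTheory CategoryTheory.Limits AlgebraicGeometry TopologicalSpace

namespace Groth.Agent.IntNum

variable {X : Scheme.{u}}

/-- The first twist can be absorbed into the module. -/
theorem tensorPows_cons : ∀ {e : ℕ} (L : Fin (e + 1) → X.Modules) (c : ℕ) (m : Fin e → ℕ) (A : X.Modules),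
    Nonempty (Curv2.tensorPows A (e + 1) L (Fin.cons c m) ≅
      Curv2.tensorPows (CohB1.tensorMod A (CohB1.tensorPow (L 0) c)) e (fun j => L j.succ) m)
  | 0, L, c, m, A => by
    simp only [Curv2.tensorPows]
    exact ⟨Iso.refl _⟩
  | e + 1, L, c, m, A => by
    obtain ⟨ih⟩ := tensorPows_cons (fun j => L j.castSucc) c (fun j => m j.castSucc) A
    have h1 : (fun i => (Fin.cons c m : Fin (e + 2) → ℕ) i.castSucc) = Fin.cons c (fun j => m j.castSucc) := by
      funext i
      refine Fin.cases ?_ (fun j => ?_) i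
      · simp
      · simp [Fin.castSucc_succ]
    have h2 : (fun j : Fin e => (fun i : Fin (e + 1) => L i.castSucc) j.succ) =
        fun j : Fin e => L j.castSucc.succ :=
      funext fun j => rfl
    rw [Curv2.tensorPows, h1, Curv2.tensorPows]
    rw [h2] at ih
    refine ⟨PicGrp.tensorModIso ih (eqToIso ?_)⟩
    rw [← Fin.succ_last, Fin.cons_succ]

/-- Twisting by an invertible module does not change lengths at points. -/
theorem lenAt_tensor_invertible {L : X.Modules} (hL : FlatMod.IsFinLocFreeOfRank 1 L) (M : X.Modules) (x : X) :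
    lenAt ((DCoh.tensorBi.obj L).obj M) x = lenAt M x := by
  obtain ⟨b⟩ := CurveTensor.exists_basis_stalk hL x
  let e : (((DCoh.tensorBi.obj L).obj M).presheaf.stalk x) ≃ₗ[X.presheaf.stalk x] (M.presheaf.stalk x : Type u) :=
    (KFlatLib.stalkTensorIso x L M).symm.toLinearEquiv ≪≫ₗ
      TensorProduct.congr b.equivFun (LinearEquiv.refl _ _) ≪≫ₗ
      TensorProduct.comm (X.presheaf.stalk x) (Fin 1 → X.presheaf.stalk x) (M.presheaf.stalk x) ≪≫ₗ
      TensorProduct.piScalarRight (X.presheaf.stalk x) (X.presheaf.stalk x) (M.presheaf.stalk x) (Fin 1) ≪≫ₗ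
      LinearEquiv.funUnique (Fin 1) (X.presheaf.stalk x) (M.presheaf.stalk x)
  exact congrArg ENat.toNat e.length_eq

theorem alt_twist_invariant (k : Type u) [Field k] [X.Over (Spec (CommRingCat.of k))]
    [IsProper (X ↘ Spec (CommRingCat.of k))] {d : ℕ} {L : Fin d → X.Modules} (hL : ∀ i, PicF.IsInvertible (L i))
    {M N : X.Modules} (hM : Coh.IsCoh M) (hN : Coh.IsCoh N)
    (hdM : topologicalKrullDim ↥(CohB1.support M) ≤ (d : WithBot ℕ∞))
    (hdN : topologicalKrullDim ↥(CohB1.support N) ≤ (d : WithBot ℕ∞))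
    (h : ∀ ξ, lenAt M ξ = lenAt N ξ) :
    alt (Snapper.χs k L M) = alt (Snapper.χs k L N) := by
  classical
  rw [alt_leading k hL hM hdM, alt_leading k hL hN hdN]
  simp only [h]

end Groth.Agent.IntNum
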