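import Groth.Agent.IntNum.Cons
import Groth.Agent.HilbPoly.Pos

/-! Intersection numbers of one module as iterated differences. -/

noncomputable section

set_option linter.style.haveILetI false
set_option backward.isDefEq.respectTransparency false
set_option backward.isDefEq.respectTransparency.types false

universe u

open CategoryTheory CategoryTheory.Limits AlgebraicGeometry TopologicalSpace

namespace Groth.Agent.IntNum

variable (k : Type u) [Field k] {X : Scheme.{u}} [X.Over (Spec (CommRingCat.of k))]
  [IsProper (X ↘ Spec (CommRingCat.of k))]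

/-- The alternating sum of the twists by a single module is the top difference. -/
theorem alt_eq_mult (L : X.Modules) : ∀ (d : ℕ) (M : X.Modules),
    alt (Snapper.χs k (fun _ : Fin d => L) M) = (HilbPoly.mult k L d M : ℚ)
  | 0, M => by
    simp only [alt, sgn, Snapper.χs, Curv2.tensorPows, Finset.univ_unique, Finset.sum_singleton,
      Finset.univ_eq_empty, Finset.prod_empty, one_mul]
    rfl
  | d + 1, M => by
    have hc : ∀ c (m : Fin d → ℕ), Snapper.χs k (fun _ : Fin (d + 1) => L) M (Fin.cons c m) =
        Snapper.χs k (fun _ : Fin d => L) (CohB1.tensorMod M (CohB1.tensorPow L c)) m := fun c m => by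
      obtain ⟨i⟩ := tensorPows_cons (fun _ : Fin (d + 1) => L) c m M
      unfold Snapper.χs
      exact congrArg (fun z : ℤ => (z : ℚ)) (CurveCohLib.euler_congr (k := k) i)
    obtain ⟨e1⟩ : Nonempty (CohB1.tensorMod M (CohB1.tensorPow L 1) ≅ CohB1.tensorMod M L) := by
      simp only [CohB1.tensorPow]
      exact ⟨PicGrp.tensorModIso (Iso.refl M) (CurveTensor.structureTensorIso L)⟩
    obtain ⟨e0⟩ : Nonempty (CohB1.tensorMod M (CohB1.tensorPow L 0) ≅ M) := by
      simp only [CohB1.tensorPow]
      exact ⟨AmpleVan.twUnit.app M⟩
    rw [alt_succ, alt_congr (hc 1), alt_congr (hc 0), alt_congr (Snapper.χs_congr k e1),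
      alt_congr (Snapper.χs_congr k e0), alt_eq_mult L d, alt_eq_mult L d, ← Int.cast_sub]
    rfl

end Groth.Agent.IntNum
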